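import Mathlib
import Cfsg.Agent.H19.Th.W.D0
import Cfsg.Agent.H19.Th.R248
import Cfsg.Agent.H19.DCE7

set_option autoImplicit false
set_option maxRecDepth 100000
set_option Elab.async false
set_option linter.all false

namespace H19.Th.W
open H29

noncomputable def xa : List ℕ := [R248.m0, R248.m1, R248.m2, R248.m3, R248.m4, R248.m5, R248.m6, R248.m7, R248.m8, a9, a10, a11, a12, a13, a14, a15, a16]
def da : List (Bool × List ℕ) := [(false, [3, 2, 3]), (false, [5, 5, 4, 6, 6]), (false, [1, 2, 0, 1]), (false, [0, 9, 11, 9, 4, 9, 11, 4, 11]), (false, [9, 11, 4, 3, 2, 4, 11, 9, 4, 1]), (true, [13]), (false, [9, 4, 0, 1, 9, 5, 10, 9, 1, 2, 9, 10, 9, 4, 9, 10]), (false, [13, 12, 14])]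
noncomputable def va0 : ℕ := Nat.lor (nat_lit 0x400001aa819802c33e9308200007a6d02200828c6ba14d9602c009a2400200) (Nat.shiftLeft (nat_lit 0x90404660c414c00c80800008500c440031410000026914066658b00000) 61504)
def ta0 : List (ℕ × ℕ) := [(0, 8), (1, 13), (2, 15), (2, 8), (3, 13), (4, 15), (4, 13), (5, 15), (5, 15), (5, 13), (6, 15), (6, 13), (7, 15), (7, 15), (7, 15), (7, 15), (6, 13), (7, 15), (7, 15), (7, 15), (7, 15), (6, 15), (5, 15), (5, 15), (4, 15), (2, 15)]
noncomputable def va1 : ℕ := Nat.lor (nat_lit 0x200000000000000000000000000048504209c81500008) (Nat.shiftLeft (nat_lit 0x80000000000017002a0886132200200) 61504)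
def ta1 : List (ℕ × ℕ) := [(0, 12), (1, 16), (1, 12), (2, 16), (2, 16), (2, 16), (2, 16), (1, 16)]
noncomputable def xb : List ℕ := [R248.m0, R248.m1, R248.m2, R248.m3, R248.m4, R248.m5, R248.m6, R248.m7, R248.m8, R248.m9, R248.m10, b11, b12, b13, b14, b15, b16, b17, b18, b19, b20, b21, b22, b23, b24, b25, b26, b27, b28, b29, b30, b31, b32, b33, b34, b35]
def db : List (Bool × List ℕ) := [(false, [3, 2, 3]), (false, [5, 5, 4, 6, 6]), (false, [1, 2, 0, 1]), (false, [0, 11, 13, 11, 4, 11, 13, 4, 13]), (true, [14]), (false, [11, 13, 4, 3, 2, 4, 13, 11, 4, 1]), (true, [16]), (false, [11, 4, 0, 1, 11, 5, 12, 11, 1, 2, 11, 12, 11, 4, 11, 12]), (true, [18]), (false, [1, 3, 2, 4, 3, 0]), (true, [20]), (false, [3, 2, 3, 9, 1, 9, 3]), (true, [22]), (false, [0, 1, 10, 3]), (true, [24]), (false, [25, 18, 24]), (false, [18, 21]), (true, [27]), (false, [19, 23]), (false, [18, 26, 19]), (false, [29, 28]), (true, [31]), (false, [31, 7, 32]), (false, [31, 14,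 32, 15]), (false, [31, 16, 32, 17])]
noncomputable def vb0 : ℕ := Nat.lor (nat_lit 0x50013c4988885180c2c5c25a47388385500484010936423940005084591009) (Nat.shiftLeft (nat_lit 0x46e421240520a7715283c84a0831c58a343504e94c98c0429a92c080481b2) 61504)
def tb0 : List (ℕ × ℕ) := [(0, 26), (1, 27), (2, 30), (2, 26), (3, 27), (4, 30), (4, 27), (5, 30), (5, 27), (6, 30), (6, 27), (7, 30), (7, 27), (7, 27), (8, 30), (8, 30), (8, 27), (9, 30), (9, 27), (10, 30), (10, 27), (10, 27), (10, 30), (7, 30), (7, 30), (7, 27)]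
noncomputable def vb1 : ℕ := Nat.lor (nat_lit 0x6b20803c9091045673a1800000a551060081b0491c14a90ca32000200008) (Nat.shiftLeft (nat_lit 0x20844c61030408fa288c0a54008c508c2000220482810a56d240c501500000) 61504)
def tb1 : List (ℕ × ℕ) := [(0, 14), (1, 16), (2, 31), (2, 14), (3, 16), (4, 31), (4, 16), (5, 31), (5, 31), (5, 16), (6, 31), (6, 16), (7, 31), (7, 31), (7, 31), (7, 31), (6, 16), (7, 31), (7, 31), (7, 31), (7, 31), (6, 31), (5, 31), (5, 31), (4, 31), (2, 31)]
noncomputable def vb2 : ℕ := Nat.lor (nat_lit 0x6c1000000484da410478058044145031e52084) (Nat.shiftLeft (nat_lit 0x10200080019312024c2048a2c3a008002108240) 61504)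
def tb2 : List (ℕ × ℕ) := [(0, 33), (1, 34), (2, 35), (2, 33), (3, 34), (4, 35), (4, 34), (5, 35), (5, 35), (5, 34), (6, 35), (6, 34), (7, 35), (7, 35), (7, 35), (7, 35), (6, 34), (7, 35), (7, 35), (7, 35), (7, 35), (6, 35), (5, 35), (5, 35), (4, 35), (2, 35)]
noncomputable def vb3 : ℕ := Nat.lor (nat_lit 0x400000000000004000000000000000000) (Nat.shiftLeft (nat_lit 0x4000000) 61504)
def tb3 : List (ℕ × ℕ) := [(0, 7), (0, 7)]
noncomputable def xc : List ℕ := [R248.m0, R248.m1, R248.m2, R248.m3, R248.m4, R248.m5, R248.m6, R248.m7, R248.m8, R248.m9, R248.m10, c11, c12, c13, c14, c15, c16, c17, c18, c19]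
def dc : List (Bool × List ℕ) := [(false, [3, 4, 5, 9]), (true, [11]), (false, [11, 11, 11]), (false, [0, 1, 10, 6, 3, 9, 1, 0, 1, 10, 3, 5, 9, 1]), (false, [14, 14]), (false, [3, 5, 5, 4, 6, 10, 8]), (true, [16]), (false, [17, 15, 16]), (false, [12, 18, 11])]
noncomputable def vc0 : ℕ := Nat.lor (nat_lit 0x11486b08132046b745082c230a4619493164d05d31b09f3c41840d126c140e) (Nat.shiftLeft (nat_lit 0x20a610b00c8da000a8731304a0b0e212c40a208048480082ba13e2241288b0) 61504)
def tc0 : List (ℕ × ℕ) := [(0, 13), (1, 19), (1, 13), (2, 19), (2, 18), (3, 19), (3, 13), (3, 18), (4, 19), (4, 18), (5, 19), (5, 18), (6, 19), (6, 13), (6, 19), (6, 19), (5, 19), (5, 19), (5, 19), (4, 19), (4, 19), (4, 19), (4, 19), (4, 18)]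
noncomputable def vc1 : ℕ := Nat.lor (nat_lit 0x10000000000000000000000000) (Nat.shiftLeft (nat_lit 0x0) 61504)
def tc1 : List (ℕ × ℕ) := [(0, 18), (0, 18), (0, 18), (0, 18)]

end H19.Th.W
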