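import Mathlib
import Cfsg.Agent.H19.Th.W.B

set_option autoImplicit false
set_option maxRecDepth 100000
set_option Elab.async false
set_option linter.all false

namespace H19.Th.W
open H29

theorem sa0 : chkS R248.C.mul R248.C.one R248.C.chk xa 9 da 0 = true := by decide +kernel

theorem sa1 : chkS R248.C.mul R248.C.one R248.C.chk xa 9 da 1 = true := by decide +kernel

theorem sa2 : chkS R248.C.mul R248.C.one R248.C.chk xa 9 da 2 = true := by decide +kernel

theorem sa3 : chkS R248.C.mul R248.C.one R248.C.chk xa 9 da 3 = true := by decide +kernel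

theorem sa4 : chkS R248.C.mul R248.C.one R248.C.chk xa 9 da 4 = true := by decide +kernel

theorem sa5 : chkS R248.C.mul R248.C.one R248.C.chk xa 9 da 5 = true := by decide +kernel

theorem sa6 : chkS R248.C.mul R248.C.one R248.C.chk xa 9 da 6 = true := by decide +kernel

theorem sa7 : chkS R248.C.mul R248.C.one R248.C.chk xa 9 da 7 = true := by decide +kernel

theorem oa0 : chkOrb R248.M.mul R248.M.chk (nth R248.C.one xa) va0 ta0 [8, 12, 13, 15, 16] [12, 16] = true := by decide +kernel

theorem oa1 : chkOrb R248.M.mul R248.M.chk (nth R248.C.one xa) va1 ta1 [12, 16] [] = true := by decide +kernel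

theorem ba : allN 9 (fun c => Nat.beq (R248.lc c) (nth R248.C.one xa c)) = true := by decide +kernel

theorem sb0 : chkS R248.C.mul R248.C.one R248.C.chk xb 11 db 0 = true := by decide +kernel

theorem sb1 : chkS R248.C.mul R248.C.one R248.C.chk xb 11 db 1 = true := by decide +kernel

theorem sb2 : chkS R248.C.mul R248.C.one R248.C.chk xb 11 db 2 = true := by decide +kernel

theorem sb3 : chkS R248.C.mul R248.C.one R248.C.chk xb 11 db 3 = true := by decide +kernel

theorem sb4 : chkS R248.C.mul R248.C.one R248.C.chk xb 11 db 4 = true := by decide +kernel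

theorem sb5 : chkS R248.C.mul R248.C.one R248.C.chk xb 11 db 5 = true := by decide +kernel

theorem sb6 : chkS R248.C.mul R248.C.one R248.C.chk xb 11 db 6 = true := by decide +kernel

theorem sb7 : chkS R248.C.mul R248.C.one R248.C.chk xb 11 db 7 = true := by decide +kernel

theorem sb8 : chkS R248.C.mul R248.C.one R248.C.chk xb 11 db 8 = true := by decide +kernel

end H19.Th.W
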