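import Mathlib
import Cfsg.Agent.H19.Th.W.B

set_option autoImplicit false
set_option maxRecDepth 100000
set_option Elab.async false
set_option linter.all false

namespace H19.Th.W
open H29

theorem sb9 : chkS R248.C.mul R248.C.one R248.C.chk xb 11 db 9 = true := by decide +kernel

theorem sb10 : chkS R248.C.mul R248.C.one R248.C.chk xb 11 db 10 = true := by decide +kernel

theorem sb11 : chkS R248.C.mul R248.C.one R248.C.chk xb 11 db 11 = true := by decide +kernel

theorem sb12 : chkS R248.C.mul R248.C.one R248.C.chk xb 11 db 12 = true := by decide +kernel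

theorem sb13 : chkS R248.C.mul R248.C.one R248.C.chk xb 11 db 13 = true := by decide +kernel

theorem sb14 : chkS R248.C.mul R248.C.one R248.C.chk xb 11 db 14 = true := by decide +kernel

theorem sb15 : chkS R248.C.mul R248.C.one R248.C.chk xb 11 db 15 = true := by decide +kernel

theorem sb16 : chkS R248.C.mul R248.C.one R248.C.chk xb 11 db 16 = true := by decide +kernel

theorem sb17 : chkS R248.C.mul R248.C.one R248.C.chk xb 11 db 17 = true := by decide +kernel

theorem sb18 : chkS R248.C.mul R248.C.one R248.C.chk xb 11 db 18 = true := by decide +kernel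

theorem sb19 : chkS R248.C.mul R248.C.one R248.C.chk xb 11 db 19 = true := by decide +kernel

theorem sb20 : chkS R248.C.mul R248.C.one R248.C.chk xb 11 db 20 = true := by decide +kernel

theorem sb21 : chkS R248.C.mul R248.C.one R248.C.chk xb 11 db 21 = true := by decide +kernel

theorem sb22 : chkS R248.C.mul R248.C.one R248.C.chk xb 11 db 22 = true := by decide +kernel

theorem sb23 : chkS R248.C.mul R248.C.one R248.C.chk xb 11 db 23 = true := by decide +kernel

theorem sb24 : chkS R248.C.mul R248.C.one R248.C.chk xb 11 db 24 = true := by decide +kernel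

theorem ob0 : chkOrb R248.M.mul R248.M.chk (nth R248.C.one xb) vb0 tb0 [7, 14, 16, 26, 27, 29, 30, 31, 33, 34, 35] [7, 14, 16, 31, 33, 34, 35] = true := by decide +kernel

theorem ob1 : chkOrb R248.M.mul R248.M.chk (nth R248.C.one xb) vb1 tb1 [7, 14, 16, 31, 33, 34, 35] [7, 33, 34, 35] = true := by decide +kernel

end H19.Th.W
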