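import Mathlib
import Cfsg.Agent.H19.Th.W.B

set_option autoImplicit false
set_option maxRecDepth 100000
set_option Elab.async false
set_option linter.all false

namespace H19.Th.W
open H29

theorem ob2 : chkOrb R248.M.mul R248.M.chk (nth R248.C.one xb) vb2 tb2 [7, 33, 34, 35] [7] = true := by decide +kernel

theorem ob3 : chkOrb R248.M.mul R248.M.chk (nth R248.C.one xb) vb3 tb3 [7] [] = true := by decide +kernel

theorem bb : allN 11 (fun c => Nat.beq (R248.lc c) (nth R248.C.one xb c)) = true := by decide +kernel

theorem sc0 : chkS R248.C.mul R248.C.one R248.C.chk xc 11 dc 0 = true := by decide +kernel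

theorem sc1 : chkS R248.C.mul R248.C.one R248.C.chk xc 11 dc 1 = true := by decide +kernel

theorem sc2 : chkS R248.C.mul R248.C.one R248.C.chk xc 11 dc 2 = true := by decide +kernel

theorem sc3 : chkS R248.C.mul R248.C.one R248.C.chk xc 11 dc 3 = true := by decide +kernel

theorem sc4 : chkS R248.C.mul R248.C.one R248.C.chk xc 11 dc 4 = true := by decide +kernel

theorem sc5 : chkS R248.C.mul R248.C.one R248.C.chk xc 11 dc 5 = true := by decide +kernel

theorem sc6 : chkS R248.C.mul R248.C.one R248.C.chk xc 11 dc 6 = true := by decide +kernel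

theorem sc7 : chkS R248.C.mul R248.C.one R248.C.chk xc 11 dc 7 = true := by decide +kernel

theorem sc8 : chkS R248.C.mul R248.C.one R248.C.chk xc 11 dc 8 = true := by decide +kernel

theorem oc0 : chkOrb R248.M.mul R248.M.chk (nth R248.C.one xc) vc0 tc0 [13, 18, 19] [18] = true := by decide +kernel

theorem oc1 : chkOrb R248.M.mul R248.M.chk (nth R248.C.one xc) vc1 tc1 [18] [] = true := by decide +kernel

theorem bc : allN 11 (fun c => Nat.beq (R248.lc c) (nth R248.C.one xc c)) = true := by decide +kernel

theorem q19 : (seqN (evC R248.C.mul R248.C.one R248.lc [1, 3, 4, 6, 10]) fun x => and2 (Nat.beq (powC R248.C.mul R248.C.one x 8 19) R248.C.one)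
    (Bool.rec true false (Nat.beq x R248.C.one))) = true := by decide +kernel

theorem q31 : (seqN (evC R248.C.mul R248.C.one R248.lc [0, 1, 5, 4, 3, 10]) fun x => and2 (Nat.beq (powC R248.C.mul R248.C.one x 8 31) R248.C.one)
    (Bool.rec true false (Nat.beq x R248.C.one))) = true := by decide +kernel

theorem eA : chkEqs R248.C.mul R248.C.one R248.lc [([10, 3, 2, 3, 9], [2, 5, 4, 3, 2, 3, 4, 5, 4, 3, 2, 3, 4, 6, 6, 4, 6, 4, 3, 2, 3, 4, 5, 4])] = true := by decide +kernel

end H19.Th.W
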